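import Cfsg.Agent.H290.GS.SwapForm
import Cfsg.Agent.H290.GS.KK
import Cfsg.Agent.KFacts.RgdChevCoord
import Cfsg.Agent.ChevalleyStructure.G2N

/-!
# S4327: the automorphisms of order two of `G₂(3^f)` interchanging the lengths (helper290)

* `swap_CA` : six conjugates generate.
-/

set_option autoImplicit false
set_option linter.unusedSectionVars false

namespace Cfsg.Agent.H290.GS.G2

open CoxeterSystem Cfsg.Agent.ChevalleyStructure.CoxeterGeom Cfsg.Agent.Tits.Roots Cfsg.Agent.Tits.Core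
open Cfsg.Lie Cfsg.Agent.ChevalleyStructure Cfsg.Agent.ChevalleyStructure.Elts
  Cfsg.Agent.ChevalleyStructure.RootVec Cfsg.Agent.ChevalleyStructure.CoxeterGeomTypes
open Cfsg.Agent.Nodes Cfsg.Agent.Nodes.Reps Cfsg.Agent.Nodes.BNOf Cfsg.Agent.Nodes.RGDChev Cfsg.Agent.Nodes.Coroot
  Cfsg.Agent.Nodes.StabComb Cfsg.Agent.KFacts.RgdAut Cfsg.Agent.KFacts.RgdDiag
open Cfsg.Agent.KFacts.RgdChevCoord (TT XX)
open Cfsg.Agent.H147.Gen (CA)

universe u

theorem hp : IsType chevG2 2 CoxeterMatrix.G₂ := by simp [IsType, typeList]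

/-! ### the map on the roots -/

/-- the map interchanging the lengths -/
def pi2 (x : Fin 2 → ℤ) : Fin 2 → ℤ :=
  if x 0 % 3 = 0 then ![x 1, x 0 / 3] else ![3 * x 1, x 0]

/-- the reflection, computable -/
def rf (i : Fin 2) (x : Fin 2 → ℤ) : Fin 2 → ℤ :=
  fun k => x k - if k = i then (cartanOf chevG2 2 i 0 * x 0 + cartanOf chevG2 2 i 1 * x 1) else 0

theorem pi2_sr : ∀ i : Fin 2, pi2 (sr i) = sr (Fin.revPerm i) := by decide +kernel

/-- the root with index `r` -/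
abbrev v (r : ℕ) : Fin 2 → ℤ := vec chevG2 2 r

theorem tab_pi : ∀ r < 12, ∀ j : Fin 2, pi2 (rf j (v r)) = rf (Fin.revPerm j) (pi2 (v r)) := by
  decide +kernel

def wd : List (Fin 2) := [0, 1, 0, 1, 0, 1]

theorem tab_w0 : ∀ i : Fin 2, wd.foldr rf (sr i) = -sr i := by decide +kernel

/-- the table of the automorphism, in the coordinates changed by the reflection `0` -/
def XN (r : ℕ) : ℕ := [8, 4, 6, 11, 1, 9, 2, 10, 0, 5, 7, 3].getD r 0

theorem tab_XN : ∀ r < 12, XN r < 12 ∧ XN (XN r) = r := by decide +kernel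

theorem tab_XN' : ∀ r < 12, rf 0 (-pi2 (rf 0 (v r))) = v (XN r) := by decide +kernel

theorem tab_rf : ∀ r < 12, rf 0 (rf 0 (v r)) = v r := by decide +kernel

theorem nroots : chevG2.nroots = 12 := rfl

section W

variable {W : Type*} [Group W] (cs : CoxeterSystem CoxeterMatrix.G₂ W)

theorem isRoot_v {r : ℕ} (hr : r < 12) : IsRoot cs hp.isCartan (v r) :=
  isRoot_vec hp cs (by rw [nroots]; exact hr)

theorem exists_v {x : Fin 2 → ℤ} (hx : IsRoot cs hp.isCartan x) : ∃ r < 12, v r = x := by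
  obtain ⟨r, hr, e⟩ := (isRoot_iff hp cs x).1 hx
  exact ⟨r, by rw [nroots] at hr; exact hr, e⟩

theorem rep_rf (i : Fin 2) (x : Fin 2 → ℤ) : rep cs hp.isCartan (cs.simple i) x = rf i x := by
  funext k
  unfold rf
  by_cases hk : k = i
  · subst hk
    rw [rep_simple_apply_self, if_pos rfl]
    unfold CoxeterGeom.pairing
    rw [Fin.sum_univ_two]
  · rw [rep_simple_apply (hk := hk), if_neg hk, sub_zero]

theorem rep_word (ω : List (Fin 2)) (x : Fin 2 → ℤ) :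
    rep cs hp.isCartan (cs.wordProd ω) x = ω.foldr rf x := by
  induction ω with
  | nil => rw [wordProd_nil, map_one, Module.End.one_apply, List.foldr_nil]
  | cons i ω ih => rw [wordProd_cons, rep_mul_apply, ih, rep_rf, List.foldr_cons]

theorem rep_wd (x : Fin 2 → ℤ) : rep cs hp.isCartan (cs.wordProd wd) x = -x := by
  rw [Cfsg.Agent.H441.GS.rep_eq_sum]
  conv_rhs => rw [Cfsg.Agent.KFacts.RgdPar.eq_sum_sr x]
  rw [← Finset.sum_neg_distrib]
  refine Finset.sum_congr rfl fun k _ => ?_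
  rw [rep_word, tab_w0, smul_neg]

theorem rep_w0 [Finite W] (x : Fin 2 → ℤ) : rep cs hp.isCartan (w0 cs) x = -x := by
  have h1 : (cs.wordProd wd)⁻¹ * w0 cs = 1 := by
    apply eq_one_of_nonneg cs hp.isCartan
    intro i
    have h2 : rep cs hp.isCartan (w0 cs) (sr i) ≤ 0 := rep_w0_nonpos (isRoot_sr cs _ i) (sr_nonneg i)
    change 0 ≤ rep cs hp.isCartan ((cs.wordProd wd)⁻¹ * w0 cs) (sr i)
    have h3 : rep cs hp.isCartan (cs.wordProd wd)⁻¹ (rep cs hp.isCartan (w0 cs) (sr i)) =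
        -rep cs hp.isCartan (w0 cs) (sr i) := by
      have h4 := rep_wd cs (-rep cs hp.isCartan (w0 cs) (sr i))
      rw [_root_.neg_neg] at h4
      conv_lhs => rw [← h4]
      rw [rep_inv_apply]
    rw [rep_mul_apply, h3]
    exact neg_nonneg.2 h2
  rw [← inv_mul_eq_one.1 h1]
  exact rep_wd cs x

theorem three_rf (i : Fin 2) (x : Fin 2 → ℤ) (h : x 0 % 3 = 0) : (rf i x) 0 % 3 = 0 := by
  have t : ∀ i j : Fin 2, cartanOf chevG2 2 i j = (![![2, -3], ![-1, 2]] : Fin 2 → Fin 2 → ℤ) i j := by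
    decide +kernel
  unfold rf
  simp only [t]
  fin_cases i <;> simp <;> omega

theorem three_rep (w : W) {x : Fin 2 → ℤ} (h : x 0 % 3 = 0) : rep cs hp.isCartan w x 0 % 3 = 0 := by
  obtain ⟨ω, rfl⟩ := cs.wordProd_surjective w
  rw [rep_word]
  induction ω with
  | nil => exact h
  | cons i ω ih => rw [List.foldr_cons]; exact three_rf i _ ih

theorem hlen (w : W) (i : Fin 2) : rep cs hp.isCartan w (sr (Fin.revPerm i)) ≠ sr i := by
  intro h
  have h' : rep cs hp.isCartan w⁻¹ (sr i) = sr (Fin.revPerm i) := by rw [← h, rep_inv_apply]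
  have key : ∀ i : Fin 2, ((sr i : Fin 2 → ℤ) 0 % 3 = 0 ∧ ¬ (sr (Fin.revPerm i) : Fin 2 → ℤ) 0 % 3 = 0) ∨
      ((sr (Fin.revPerm i) : Fin 2 → ℤ) 0 % 3 = 0 ∧ ¬ (sr i : Fin 2 → ℤ) 0 % 3 = 0) := by decide +kernel
  rcases key i with ⟨h1, h3⟩ | ⟨h1, h3⟩
  · apply h3
    rw [← h']
    exact three_rep cs _ h1
  · apply h3
    rw [← h]
    exact three_rep cs _ h1

theorem pi2_rep {r : Fin 2 → ℤ} (hr : IsRoot cs hp.isCartan r) (j : Fin 2) :
    pi2 (rep cs hp.isCartan (cs.simple j) r) =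
      rep cs hp.isCartan (cs.simple (Fin.revPerm j)) (pi2 r) := by
  obtain ⟨s, hs, rfl⟩ := exists_v cs hr
  rw [rep_rf, rep_rf]
  exact tab_pi s hs j

end W

/-! ### root elements -/

section Elts

variable {K : Type u} [Field K]

/-- the root elements -/
def E (K : Type u) [Field K] (r : ℕ) (t : K) : ↥(chevG2.group K) := ⟨xG hp.inList r t, xG_mem_group hp.inList r t⟩

theorem E_add (r : ℕ) (s t : K) : E K r (s + t) = E K r s * E K r t := Subtype.ext (xG_add hp.inList r s t).symm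

theorem E_zero (r : ℕ) : E K r 0 = 1 := Subtype.ext (xG_zero hp.inList r)

theorem E_neg (r : ℕ) (t : K) : E K r (-t) = (E K r t)⁻¹ := Subtype.ext (xG_inv hp.inList r t).symm

theorem mem_X {r : ℕ} (hr : r < 12) (y : ↥(chevG2.group K)) : y ∈ XX chevG2 2 K (v r) ↔ ∃ t, E K r t = y := by
  have hr' : r < chevG2.nroots := by rw [nroots]; exact hr
  rw [Subgroup.mem_subgroupOf, XV_vec hp K hr', mem_rootSubgroup_iff hp.inList]
  constructor
  · rintro ⟨t, ht⟩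
    exact ⟨t, Subtype.ext ht.symm⟩
  · rintro ⟨t, rfl⟩
    exact ⟨t, rfl⟩

/-- the commutator formula -/
theorem rel {r s : ℕ} {L : List (ℕ × ℤ × ℕ × ℕ)}
    (hc : r < 12 ∧ s < 12 ∧ s ≠ r ∧ s ≠ chevG2.neg r ∧ chevG2.commTerms r s = L) (t u : K) :
    (E K s u)⁻¹ * (E K r t)⁻¹ * E K s u * E K r t =
      (L.map fun c => E K c.1 ((c.2.1 : K) * (-t) ^ c.2.2.1 * u ^ c.2.2.2)).prod := by
  obtain ⟨hr, hs, hrs, hneg, hL⟩ := hc
  have h1 := comm_xG (K := K) hp (r := r) (s := s) (by rw [nroots]; exact hr) (by rw [nroots]; exact hs) hrs hneg t u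
  rw [commutatorElement_def, inv_inv, inv_inv] at h1
  apply Subtype.ext
  have h2 : (((L.map fun c => E K c.1 ((c.2.1 : K) * (-t) ^ c.2.2.1 * u ^ c.2.2.2)).prod :
      ↥(chevG2.group K)) : GL chevG2.Idx K) = wordG hp.inList (chevG2.commWord K r s t u) := by
    rw [ChevalleyDatum.commWord, hL]
    clear h1 hL
    induction L with
    | nil => rfl
    | cons c L ih => rw [List.map_cons, List.prod_cons, List.map_cons, wordG_cons, Subgroup.coe_mul, ih]; rfl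
  rw [h2]
  exact h1

theorem comm_of_nil {r s : ℕ} (hc : r < 12 ∧ s < 12 ∧ s ≠ r ∧ s ≠ chevG2.neg r ∧ chevG2.commTerms r s = [])
    (t u : K) : E K r t * E K s u = E K s u * E K r t := by
  have h1 := rel hc t u
  rw [List.map_nil, List.prod_nil] at h1
  have h2 : E K r t * E K s u * ((E K s u)⁻¹ * (E K r t)⁻¹ * E K s u * E K r t) = E K s u * E K r t := by group
  rwa [h1, mul_one] at h2

/-- the element `n` of the long simple root -/
def N6 (K : Type u) [Field K] : ↥(chevG2.group K) := E K 6 1 * E K 5 (-1) * E K 6 1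

theorem N6_conj {s : ℕ} (hs : s < 12) (t : K) : N6 K * E K s t * (N6 K)⁻¹ = E K (G2N.W 6 s) (G2N.E 6 s * t) := by
  have h1 := G2N.conj_x (F := K) (p := 6) (Or.inr rfl) hs t
  rw [mul_inv_eq_iff_eq_mul] at h1 ⊢
  apply Subtype.ext
  apply Units.ext
  have h2 := congrArg (fun g : GL chevG2.Idx K => (g : Matrix chevG2.Idx chevG2.Idx K)) h1
  have hn : chevG2.neg 6 = 5 := by decide +kernel
  simp only [Units.val_mul, G2N.nG, hn, inv_one] at h2
  exact h2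

end Elts

/-! ### derivation -/

section Derive

variable {K : Type u} [Field K] [Finite K] [CharP K 3]

/-- the standard Coxeter system -/
abbrev cG : CoxeterSystem CoxeterMatrix.G₂ CoxeterMatrix.G₂.Group := CoxeterMatrix.G₂.toCoxeterSystem

instance : Finite CoxeterMatrix.G₂.Group := finite_W hp cG

theorem three_eq : (3 : K) = 0 := by
  have := CharP.cast_eq_zero K 3
  exact_mod_cast this

/-- the automorphism maps `X_r` onto `X_{XN r}` -/
def Sw (x : MulAut ↥(chevG2.group K)) : Prop :=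
  ∀ r < 12, ∀ y, x y ∈ XX chevG2 2 K (v (XN r)) ↔ y ∈ XX chevG2 2 K (v r)

/-- the root subgroup is reached -/
def PP (x : MulAut ↥(chevG2.group K)) (l : List ↥(chevG2.group K)) (r : ℕ) : Prop := ∀ t : K, E K r t ∈ KK x l

variable {x : MulAut ↥(chevG2.group K)} {l : List ↥(chevG2.group K)}

/-- preimages -/
theorem Sw.exists (hx : Sw x) {r : ℕ} (hr : r < 12) (t : K) : ∃ s, x (E K r s) = E K (XN r) t := by
  have h1 : x (x⁻¹ (E K (XN r) t)) ∈ XX chevG2 2 K (v (XN r)) := by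
    rw [MulAut.apply_inv_self]
    exact (mem_X (tab_XN r hr).1 _).2 ⟨t, rfl⟩
  obtain ⟨s, hs⟩ := (mem_X hr _).1 ((hx r hr _).1 h1)
  exact ⟨s, by rw [hs, MulAut.apply_inv_self]⟩

theorem PP.apply (hx : Sw x) {r s : ℕ} (hr : r < 12) (h : PP x l r) (hs : XN r = s) : PP x l s := by
  subst hs
  intro t
  obtain ⟨s, hs⟩ := hx.exists hr t
  rw [← hs]
  exact KK_apply (h s)

theorem comm_mem' {a b : ↥(chevG2.group K)} (ha : a ∈ KK x l) (hb : b ∈ KK x l) : b⁻¹ * a⁻¹ * b * a ∈ KK x l :=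
  mul_mem (mul_mem (mul_mem (inv_mem hb) (inv_mem ha)) hb) ha

theorem r49 (h4 : PP x l 4) (h9 : PP x l 9) : PP x l 8 := by
  intro c
  have h1 := rel (K := K) (r := 4) (s := 9) (L := [(8, -2, 1, 1), (6, 3, 2, 1), (11, -3, 1, 2)]) (by decide +kernel)
    (-c) 1
  have h3 := three_eq (K := K)
  have e1 : ((-2 : ℤ) : K) * (- -c) ^ 1 * 1 ^ 1 = c := by push_cast; linear_combination (-c) * h3
  have e2 : ((3 : ℤ) : K) * (- -c) ^ 2 * 1 ^ 1 = 0 := by push_cast; linear_combination (c ^ 2) * h3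
  have e3 : ((-3 : ℤ) : K) * (- -c) ^ 1 * 1 ^ 2 = 0 := by push_cast; linear_combination (-c) * h3
  simp only [List.map_cons, List.map_nil, List.prod_cons, List.prod_nil] at h1
  rw [e1, e2, e3, E_zero, E_zero, mul_one, mul_one, mul_one] at h1
  rw [← h1]
  exact comm_mem' (h4 _) (h9 _)

theorem r19 (h1 : PP x l 1) (h9 : PP x l 9) (h4 : PP x l 4) (h8 : PP x l 8) (h6 : PP x l 6) : PP x l 11 := by
  intro c
  have h2 := rel (K := K) (r := 1) (s := 9) (L := [(4, -1, 1, 1), (8, 1, 1, 2), (11, 1, 1, 3), (6, -2, 2, 3)])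
    (by decide +kernel) (-c) 1
  simp only [List.map_cons, List.map_nil, List.prod_cons, List.prod_nil] at h2
  have e1 : ((1 : ℤ) : K) * (- -c) ^ 1 * 1 ^ 3 = c := by push_cast; ring
  rw [e1, mul_one] at h2
  have h3 : _ ∈ KK x l := h2 ▸ comm_mem' (x := x) (l := l) (h1 (-c)) (h9 1)
  have h4' := (Subgroup.mul_mem_cancel_left _ (h4 _)).1 h3
  have h5 := (Subgroup.mul_mem_cancel_left _ (h8 _)).1 h4'
  exact (Subgroup.mul_mem_cancel_right _ (h6 _)).1 h5

theorem r115 (h11 : PP x l 11) (h5 : PP x l 5) : PP x l 10 := by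
  intro c
  have h1 := rel (K := K) (r := 11) (s := 5) (L := [(10, -1, 1, 1)]) (by decide +kernel) c 1
  simp only [List.map_cons, List.map_nil, List.prod_cons, List.prod_nil] at h1
  have e1 : ((-1 : ℤ) : K) * (-c) ^ 1 * 1 ^ 1 = c := by push_cast; ring
  rw [e1, mul_one] at h1
  rw [← h1]
  exact comm_mem' (h11 _) (h5 _)

/-- the step -/
theorem rstep (hx : Sw x) (h0 : E K 0 1 ∈ l) (h2 : PP x l 2) (h6 : PP x l 6) : PP x l 1 := by
  intro c
  have h1 := rel (K := K) (r := 6) (s := 0) (L := [(1, -1, 1, 1)]) (by decide +kernel) (-c) (-1)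
  simp only [List.map_cons, List.map_nil, List.prod_cons, List.prod_nil] at h1
  have e1 : ((-1 : ℤ) : K) * (- -c) ^ 1 * (-1) ^ 1 = c := by push_cast; ring
  rw [e1, mul_one, E_neg 0 1, inv_inv] at h1
  obtain ⟨s, hs⟩ := hx.exists (r := 2) (by norm_num) (-c)
  have hc : E K 0 1 * E K 2 s = E K 2 s * E K 0 1 :=
    comm_of_nil (r := 0) (s := 2) (by decide +kernel) 1 s
  have h3 := KK_step h0 (h2 s) hc
  rw [hs] at h3
  change E K 0 1 * E K 6 (-c) * (E K 0 1)⁻¹ ∈ KK x l at h3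
  rw [← h1]
  have e2 : E K 0 1 * (E K 6 (-c))⁻¹ * (E K 0 1)⁻¹ * E K 6 (-c) =
      (E K 0 1 * E K 6 (-c) * (E K 0 1)⁻¹)⁻¹ * E K 6 (-c) := by group
  rw [e2]
  exact mul_mem (inv_mem h3) (h6 _)

theorem top_of (hx : Sw x) (h0 : E K 0 1 ∈ l) (h6 : PP x l 6) (h5 : PP x l 5) : KK x l = ⊤ := by
  have h2 : PP x l 2 := h6.apply hx (by norm_num) rfl
  have h9 : PP x l 9 := h5.apply hx (by norm_num) rfl
  have h1 : PP x l 1 := rstep hx h0 h2 h6
  have h4 : PP x l 4 := h1.apply hx (by norm_num) rfl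
  have h8 : PP x l 8 := r49 h4 h9
  have h0' : PP x l 0 := h8.apply hx (by norm_num) rfl
  have h11 : PP x l 11 := r19 h1 h9 h4 h8 h6
  have h3 : PP x l 3 := h11.apply hx (by norm_num) rfl
  have h10 : PP x l 10 := r115 h11 h5
  have h7 : PP x l 7 := h10.apply hx (by norm_num) rfl
  rw [eq_top_iff, ← G1_eq_top (K := K) hp cG]
  refine RGD.Sup_le fun r hr y hy => ?_
  obtain ⟨s, hs, rfl⟩ := exists_v cG hr
  obtain ⟨t, rfl⟩ := (mem_X hs y).1 hy
  interval_cases s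
  · exact h0' t
  · exact h1 t
  · exact h2 t
  · exact h3 t
  · exact h4 t
  · exact h5 t
  · exact h6 t
  · exact h7 t
  · exact h8 t
  · exact h9 t
  · exact h10 t
  · exact h11 t

end Derive

/-! ### the start -/

section Start

variable {K : Type u} [Field K] [Finite K] [CharP K 3] {x : MulAut ↥(chevG2.group K)}

theorem comm_XX {r s : ℕ} (hc : r < 12 ∧ s < 12 ∧ s ≠ r ∧ s ≠ chevG2.neg r ∧ chevG2.commTerms r s = [])
    {a b : ↥(chevG2.group K)} (ha : a ∈ XX chevG2 2 K (v r)) (hb : b ∈ XX chevG2 2 K (v s)) : a * b = b * a := by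
  obtain ⟨c, rfl⟩ := (mem_X hc.1 a).1 ha
  obtain ⟨d, rfl⟩ := (mem_X hc.2.1 b).1 hb
  exact comm_of_nil hc c d

theorem start_comm (hx : Sw x) : ∀ a ∈ XX chevG2 2 K (v 6) ⊔ XX chevG2 2 K (v 5),
    ∀ b ∈ XX chevG2 2 K (v 6) ⊔ XX chevG2 2 K (v 5), a * x b = x b * a := by
  have key2 : ∀ r : ℕ, (r = 6 ∨ r = 5) → XX chevG2 2 K (v r) ≤
      Subgroup.centralizer ((XX chevG2 2 K (v 2) ⊔ XX chevG2 2 K (v 9) : Subgroup ↥(chevG2.group K)) :
        Set ↥(chevG2.group K)) := by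
    intro r hr a ha
    rw [Subgroup.mem_centralizer_iff]
    intro b hb
    have h2 : XX chevG2 2 K (v 2) ⊔ XX chevG2 2 K (v 9) ≤ Subgroup.centralizer ({a} : Set ↥(chevG2.group K)) := by
      refine sup_le (fun c hc => ?_) (fun c hc => ?_)
      · rw [Subgroup.mem_centralizer_singleton_iff]
        refine (comm_XX ?_ ha hc).symm
        rcases hr with rfl | rfl <;> decide +kernel
      · rw [Subgroup.mem_centralizer_singleton_iff]
        refine (comm_XX ?_ ha hc).symm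
        rcases hr with rfl | rfl <;> decide +kernel
    exact Subgroup.mem_centralizer_singleton_iff.1 (h2 hb)
  have h1 : XX chevG2 2 K (v 6) ⊔ XX chevG2 2 K (v 5) ≤
      Subgroup.centralizer ((XX chevG2 2 K (v 2) ⊔ XX chevG2 2 K (v 9) : Subgroup ↥(chevG2.group K)) :
        Set ↥(chevG2.group K)) := sup_le (key2 6 (Or.inl rfl)) (key2 5 (Or.inr rfl))
  have h2 : XX chevG2 2 K (v 6) ⊔ XX chevG2 2 K (v 5) ≤
      (XX chevG2 2 K (v 2) ⊔ XX chevG2 2 K (v 9)).comap x.toMonoidHom := by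
    refine sup_le (fun c hc => ?_) (fun c hc => ?_)
    · exact Subgroup.mem_sup_left ((hx 6 (by norm_num) c).2 hc)
    · exact Subgroup.mem_sup_right ((hx 5 (by norm_num) c).2 hc)
  intro a ha b hb
  exact (Subgroup.mem_centralizer_iff.1 (h1 ha) (x b) (h2 hb)).symm

theorem m6 (c : K) : E K 6 c ∈ XX chevG2 2 K (v 6) ⊔ XX chevG2 2 K (v 5) :=
  Subgroup.mem_sup_left ((mem_X (by norm_num) _).2 ⟨c, rfl⟩)

theorem m5 (c : K) : E K 5 c ∈ XX chevG2 2 K (v 6) ⊔ XX chevG2 2 K (v 5) :=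
  Subgroup.mem_sup_right ((mem_X (by norm_num) _).2 ⟨c, rfl⟩)

theorem N6_66 (t : K) : N6 K * E K 6 t * (N6 K)⁻¹ = E K 5 (-t) := by
  rw [N6_conj (by norm_num) t, show G2N.W 6 6 = 5 by decide +kernel, show G2N.E 6 6 = -1 by decide +kernel]
  push_cast
  rw [neg_one_mul]

theorem N6_64 (t : K) : N6 K * E K 4 t * (N6 K)⁻¹ = E K 3 t := by
  rw [N6_conj (by norm_num) t, show G2N.W 6 4 = 3 by decide +kernel, show G2N.E 6 4 = 1 by decide +kernel]
  push_cast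
  rw [one_mul]

theorem N6_61 (t : K) : N6 K * E K 1 t * (N6 K)⁻¹ = E K 0 t := by
  rw [N6_conj (by norm_num) t, show G2N.W 6 1 = 0 by decide +kernel, show G2N.E 6 1 = 1 by decide +kernel]
  push_cast
  rw [one_mul]

/-- the element of the torus -/
noncomputable def T6 (ζ : K) : ↥(chevG2.group K) := Cfsg.Agent.KFacts.RgdChevCoord.hc hp 1 ζ

theorem T6_eq (ζ : K) : T6 ζ = E K 6 ζ * (E K 5 (-ζ⁻¹) * E K 6 ζ) * (E K 6 (-1) * (E K 5 1 * E K 6 (-1))) := by
  apply Subtype.ext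
  have h6 : chevG2.simple (1 : Fin 2) = 6 := by decide +kernel
  have h5 : chevG2.neg 6 = 5 := by decide +kernel
  have h7 : (-(-1 : K)⁻¹) = 1 := by rw [inv_neg, inv_one, _root_.neg_neg]
  change hG hp.inList (chevG2.simple (1 : Fin 2)) ζ = _
  rw [h6, hG_def, nG_def, nG_def, h5, h7]
  rfl

theorem T6_conj {ζ : K} (hζ : ζ ≠ 0) (c : K) : T6 ζ * E K 6 c * (T6 ζ)⁻¹ = E K 6 (ζ ^ 2 * c) := by
  have h6 : chevG2.simple (1 : Fin 2) = 6 := by decide +kernel
  have hr : 6 < chevG2.nroots := by rw [nroots]; norm_num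
  have h1 := (Cfsg.Agent.KFacts.RgdChevCoord.act hp (K := K) hr
    (Cfsg.Agent.KFacts.RgdChevCoord.hc_mem hp (1 : Fin 2) hζ)).2 c
  rw [Cfsg.Agent.KFacts.RgdChevCoord.ch_hc hp (1 : Fin 2) hζ hr] at h1
  have hA : chevG2.cartan (1 : Fin 2) 6 = 2 := by decide +kernel
  rw [hA, show ζ ^ (2 : ℤ) = ζ ^ 2 from zpow_ofNat ζ 2] at h1
  have h2 : ∀ c : K, Cfsg.Agent.KFacts.RgdChevCoord.xc hp (v 6) c = E K 6 c := fun c =>
    Subtype.ext (Cfsg.Agent.KFacts.RgdChevCoord.coe_xc hp hr c)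
  rw [h2, h2] at h1
  exact h1

theorem big (hx : Sw x) {ζ : K} (hζ : ∀ a : K, a ≠ 0 → ∃ j : ℕ, ζ ^ j = a) (hζ0 : ζ ≠ 0) (hζ1 : ζ ^ 2 ≠ 1) :
    CA 11 x := by
  have hnN : N6 K ∈ XX chevG2 2 K (v 6) ⊔ XX chevG2 2 K (v 5) := mul_mem (mul_mem (m6 _) (m5 _)) (m6 _)
  have htN : T6 ζ ∈ XX chevG2 2 K (v 6) ⊔ XX chevG2 2 K (v 5) := by
    rw [T6_eq]
    exact mul_mem (mul_mem (m6 _) (mul_mem (m5 _) (m6 _))) (mul_mem (m6 _) (mul_mem (m5 _) (m6 _)))
  obtain ⟨l, hl⟩ : ∃ l, l = [T6 ζ, E K 6 1, T6 ζ * E K 6 1, N6 K, E K 0 1] := ⟨_, rfl⟩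
  have hst := start (x := x) (l := l) (N := XX chevG2 2 K (v 6) ⊔ XX chevG2 2 K (v 5)) (start_comm hx)
    (fun S hS => Cfsg.Agent.KFacts.RgdChevCoord.closure_sq hS) (e := E K 6) (e' := E K 5) m6
    (fun a b => E_add 6 a b) (t := T6 ζ) (n := N6 K) (ζ := ζ) htN hnN hζ hζ1
    (fun c => T6_conj hζ0 c)
    (by rw [hl]; simp) (by rw [hl]; simp) (by rw [hl]; simp) (by rw [hl]; simp)
    (fun c => ⟨-c, by rw [N6_66, _root_.neg_neg]⟩)
  exact CA_of_KK (l := l) (top_of hx (by rw [hl]; simp) hst.1 hst.2) (by rw [hl]; simp)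

theorem E_cube (r : ℕ) : E K r 1 * E K r 1 = (E K r 1)⁻¹ := by
  rw [← E_add, ← E_neg]
  congr 1
  have h3 := three_eq (K := K)
  linear_combination h3

theorem braid {G : Type*} [Group G] {a b : G} (ha : a * a = a⁻¹) (h : a * b⁻¹ * a = b⁻¹ * a * b⁻¹) :
    a * b * a⁻¹ * b⁻¹ = a⁻¹ * b * a⁻¹ := by
  have h1 : a⁻¹ * b * a⁻¹ = b * a⁻¹ * b := by
    have := congrArg (·⁻¹) h
    simpa [mul_assoc] using this
  have h2 : a⁻¹ * a⁻¹ = a := by rw [← mul_inv_rev, ha, inv_inv]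
  have h3 : a * b * a⁻¹ = a⁻¹ * b * a⁻¹ * b := by
    calc a * b * a⁻¹ = (a⁻¹ * a⁻¹) * b * a⁻¹ := by rw [h2]
      _ = a⁻¹ * (a⁻¹ * b * a⁻¹) := by group
      _ = a⁻¹ * (b * a⁻¹ * b) := by rw [h1]
      _ = a⁻¹ * b * a⁻¹ * b := by group
  rw [h3, mul_inv_cancel_right]

theorem small (hx : Sw x) (hK : ∀ a : K, a ≠ 0 → a = 1 ∨ a = -1) : CA 11 x := by
  obtain ⟨l, hl⟩ : ∃ l, l = [E K 6 1, E K 5 1, E K 6 1 * E K 5 1, E K 4 1, E K 0 1] := ⟨_, rfl⟩
  have h1 := KK_comm (x := x) (l := l) (g := E K 6 1) (k := E K 5 1) (by rw [hl]; simp) (by rw [hl]; simp)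
    (by rw [hl]; simp) (start_comm hx _ (m6 1) _ (m5 1))
  -- the monomial element
  have hN : N6 K = E K 6 1 * (E K 5 1)⁻¹ * E K 6 1 := by rw [N6, E_neg]
  have hbr : E K 6 1 * (E K 5 1)⁻¹ * E K 6 1 = (E K 5 1)⁻¹ * E K 6 1 * (E K 5 1)⁻¹ := by
    have h2 := N6_66 (K := K) 1
    rw [E_neg, mul_inv_eq_iff_eq_mul] at h2
    rw [hN] at h2
    have h3 : E K 6 1 * (E K 5 1)⁻¹ * E K 6 1 * E K 6 1 = (E K 5 1)⁻¹ * E K 6 1 * (E K 5 1)⁻¹ * E K 6 1 := by
      rw [h2]; group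
    exact mul_right_cancel h3
  have hd : E K 6 1 * E K 5 1 * (E K 6 1)⁻¹ * (E K 5 1)⁻¹ = (N6 K)⁻¹ := by
    rw [braid (E_cube 6) hbr, hN]
    group
  have hnK : N6 K ∈ KK x l := by
    rw [hd] at h1
    exact inv_mem_iff.1 h1
  -- the element `z`
  have hx4 : x (E K 4 1) ∈ XX chevG2 2 K (v 1) := (hx 4 (by norm_num) _).2 ((mem_X (by norm_num) _).2 ⟨1, rfl⟩)
  obtain ⟨c, hc⟩ := (mem_X (by norm_num) _).1 hx4
  have hz := KK_disp (x := x) (l := l) (g := E K 4 1) (by rw [hl]; simp)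
  rw [← hc, ← E_neg] at hz
  have hz' := mul_mem (mul_mem hnK hz) (inv_mem hnK)
  have e1 : N6 K * (E K 4 1 * E K 1 (-c)) * (N6 K)⁻¹ = E K 3 1 * E K 0 (-c) := by
    rw [← N6_64, ← N6_61]; group
  rw [e1] at hz'
  have hzz := mul_mem (mul_mem (mul_mem hz hz') (inv_mem hz)) (inv_mem hz')
  have c13 : E K 1 (-c) * E K 3 1 = E K 3 1 * E K 1 (-c) := comm_of_nil (by decide +kernel) _ _
  have c10 : E K 1 (-c) * E K 0 (-c) = E K 0 (-c) * E K 1 (-c) := comm_of_nil (by decide +kernel) _ _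
  have c40 : E K 4 1 * E K 0 (-c) = E K 0 (-c) * E K 4 1 := comm_of_nil (by decide +kernel) _ _
  have h3 := three_eq (K := K)
  have h2 := rel (K := K) (r := 3) (s := 4) (L := [(2, -2, 1, 1), (0, 3, 2, 1), (1, -3, 1, 2)]) (by decide +kernel)
    (-1) (-1)
  simp only [List.map_cons, List.map_nil, List.prod_cons, List.prod_nil] at h2
  have f1 : ((-2 : ℤ) : K) * (- -1) ^ 1 * (-1) ^ 1 = -1 := by push_cast; linear_combination h3
  have f2 : ((3 : ℤ) : K) * (- -1) ^ 2 * (-1) ^ 1 = 0 := by push_cast; linear_combination (-1 : K) * h3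
  have f3 : ((-3 : ℤ) : K) * (- -1) ^ 1 * (-1) ^ 2 = 0 := by push_cast; linear_combination (-1 : K) * h3
  rw [f1, f2, f3, E_zero, E_zero, mul_one, mul_one, mul_one, E_neg 3 1, E_neg 4 1, inv_inv, inv_inv] at h2
  have e2 : E K 4 1 * E K 1 (-c) * (E K 3 1 * E K 0 (-c)) * (E K 4 1 * E K 1 (-c))⁻¹ * (E K 3 1 * E K 0 (-c))⁻¹ =
      E K 2 (-1) := by
    rw [← h2]
    have g1 : E K 1 (-c) * (E K 3 1 * E K 0 (-c)) * (E K 1 (-c))⁻¹ = E K 3 1 * E K 0 (-c) := by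
      rw [mul_inv_eq_iff_eq_mul, ← mul_assoc, c13, mul_assoc, c10, mul_assoc]
    have g2 : E K 0 (-c) * (E K 4 1)⁻¹ * (E K 0 (-c))⁻¹ = (E K 4 1)⁻¹ := by
      rw [mul_inv_eq_iff_eq_mul, eq_inv_mul_iff_mul_eq, ← mul_assoc, c40, mul_inv_cancel_right]
    calc E K 4 1 * E K 1 (-c) * (E K 3 1 * E K 0 (-c)) * (E K 4 1 * E K 1 (-c))⁻¹ * (E K 3 1 * E K 0 (-c))⁻¹
        = E K 4 1 * (E K 1 (-c) * (E K 3 1 * E K 0 (-c)) * (E K 1 (-c))⁻¹) * (E K 4 1)⁻¹ *
            (E K 3 1 * E K 0 (-c))⁻¹ := by group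
      _ = E K 4 1 * E K 3 1 * (E K 0 (-c) * (E K 4 1)⁻¹ * (E K 0 (-c))⁻¹) * (E K 3 1)⁻¹ := by rw [g1]; group
      _ = E K 4 1 * E K 3 1 * (E K 4 1)⁻¹ * (E K 3 1)⁻¹ := by rw [g2]
  rw [e2] at hzz
  have p2 : PP x l 2 := by
    intro t
    by_cases ht : t = 0
    · rw [ht, E_zero]; exact one_mem _
    · rcases hK t ht with rfl | rfl
      · have := inv_mem hzz
        rwa [← E_neg, _root_.neg_neg] at this
      · exact hzz
  have p6 : PP x l 6 := p2.apply hx (by norm_num) rfl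
  have p5 : PP x l 5 := by
    intro t
    have h4 := mul_mem (mul_mem hnK (p6 (-t))) (inv_mem hnK)
    rwa [N6_66, _root_.neg_neg] at h4
  exact CA_of_KK (l := l) (top_of hx (by rw [hl]; simp) p6 p5) (by rw [hl]; simp)

theorem sw_CA (hx : Sw x) : CA 11 x := by
  by_cases hK : ∀ a : K, a ≠ 0 → a = 1 ∨ a = -1
  · exact small hx hK
  · obtain ⟨g, hg⟩ := IsCyclic.exists_generator (α := Kˣ)
    have hζ : ∀ a : K, a ≠ 0 → ∃ j : ℕ, (g : K) ^ j = a := by
      intro a ha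
      obtain ⟨j, hj⟩ := (mem_powers_iff_mem_zpowers).2 (hg (Units.mk0 a ha))
      refine ⟨j, ?_⟩
      have := congrArg Units.val hj
      simpa using this
    refine big hx hζ g.ne_zero fun h1 => hK fun a ha => ?_
    obtain ⟨j, hj⟩ := hζ a ha
    rcases mul_self_eq_one_iff.1 ((sq (g : K)).symm.trans h1) with h2 | h2
    · left; rw [← hj, h2, one_pow]
    · rcases Nat.even_or_odd j with h3 | h3
      · left; rw [← hj, h2, h3.neg_one_pow]
      · right; rw [← hj, h2, h3.neg_one_pow]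

/-- **`G₂(3^f)`: automorphisms of order two interchanging the lengths.** -/
theorem swap_CA {α : MulAut ↥(chevG2.group K)} (hα : α * α = 1) {g₀ : ↥(chevG2.group K)} {σ : Equiv.Perm (Fin 2)}
    (D : Diag (TT chevG2 K) (XX chevG2 2 K) (MulAut.conj g₀ * α) σ)
    (hB : Fix (MulAut.conj g₀ * α) (RGD.B cG hp.isCartan (TT chevG2 K) (XX chevG2 2 K))) (hσ : σ ≠ 1) : CA 11 α := by
  have : Fact (Nat.Prime 3) := ⟨Nat.prime_three⟩
  have R := rgd (K := K) hp cG 3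
  have hσ' : σ = Fin.revPerm := by
    have key : ∀ σ : Equiv.Perm (Fin 2), σ ≠ 1 → σ = Fin.revPerm := by decide
    exact key σ hσ
  subst hσ'
  obtain ⟨y, k, β, hk, D', hform⟩ := exists_form R (Cfsg.Agent.KFacts.RgdRigid.GG_eq_top (G1_eq_top hp cG)) hα D hB
    (fun w i => hlen cG w i)
  apply CA_conj y
  rw [hform]
  obtain ⟨m, hm⟩ := exists_rp cG R.nsys (cG.simple 0)
  apply CA_conj m
  apply sw_CA
  intro r hr z
  have hv := isRoot_v cG hr
  have h1 := form_apply R D' hk (rep_w0 cG) pi2_sr (fun r hr j => pi2_rep cG hr j) (hv.act (cG.simple 0))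
    (m⁻¹ * z * m)
  have hroot : IsRoot cG hp.isCartan (-pi2 (rep cG hp.isCartan (cG.simple 0) (v r))) := by
    obtain ⟨s, hs, e⟩ := exists_v cG (hv.act (cG.simple 0))
    rw [← e]
    have key : ∀ s < 12, ∃ t < 12, v t = -pi2 (v s) := by decide +kernel
    obtain ⟨t, ht, e'⟩ := key s hs
    rw [← e']
    exact isRoot_v cG ht
  have h2 : XX chevG2 2 K (v (XN r)) = cj m (XX chevG2 2 K (-pi2 (rep cG hp.isCartan (cG.simple 0) (v r)))) := by
    rw [R.conj_rp hm hroot, rep_rf, rep_rf, tab_XN' r hr]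
  have h3 : XX chevG2 2 K (v r) = cj m (XX chevG2 2 K (rep cG hp.isCartan (cG.simple 0) (v r))) := by
    rw [R.conj_rp hm (hv.act _), rep_rf, rep_rf, tab_rf r hr]
  rw [h2, h3, mem_cj, mem_cj, ← h1]
  have e : m⁻¹ * (MulAut.conj m * (MulAut.conj k * β) * (MulAut.conj m)⁻¹) z * m =
      (MulAut.conj k * β) (m⁻¹ * z * m) := by
    rw [MulAut.mul_apply, MulAut.mul_apply, MulAut.conj_apply, ← map_inv, MulAut.conj_apply, inv_inv]
    group
  rw [e]

end Start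

end Cfsg.Agent.H290.GS.G2
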